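import Cfsg.Agent.Lib.Components.Basic
import Cfsg.Agent.Lib.FTClassSize.Basic
import Mathlib.GroupTheory.Sylow

/-!
# Conjugate cyclic `p`-subgroups and the layer (conditional on the odd order theorem)
-/

namespace Cfsg.Agent.Lib.FTConjCyclic

open Cfsg.Agent.Lib.Components Cfsg.Agent.Lib.FTClassSize

universe u

variable {G : Type u} [Group G] [Finite G]

/-- Under the odd order theorem, a component contains a non-central 2-element. -/
theorem exists_two_elem_not_central (hFT : OddSolvable.{u}) {K : Subgroup G} (hK : IsComponent K) :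
    ∃ e : ℕ, ∃ a ∈ K, orderOf a = 2 ^ e ∧ ∃ y ∈ K, a * y ≠ y * a := by
  haveI := Fact.mk Nat.prime_two
  by_contra hcon
  push Not at hcon
  obtain ⟨S⟩ : Nonempty (Sylow 2 ↥K) := inferInstance
  have hS : (S : Subgroup ↥K) ≤ Subgroup.center ↥K := by
    intro x hx
    obtain ⟨e, he⟩ := S.2.exists_orderOf_eq_pow ⟨x, hx⟩ |>.imp fun e he => he
    rw [Subgroup.orderOf_mk] at he
    refine Subgroup.mem_center_iff.mpr fun y => Subtype.ext ?_
    have := hcon e (x : G) x.2 (by rw [Subgroup.orderOf_coe]; exact he) (y : G) y.2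
    exact this.symm
  have hidx : Odd (Nat.card (↥K ⧸ Subgroup.center ↥K)) := by
    rw [← Subgroup.index_eq_card, Nat.odd_iff, ← Nat.two_dvd_ne_zero]
    exact fun h2 => S.not_dvd_index (h2.trans (Subgroup.index_dvd_of_le hS))
  haveI := hK.2.2
  have hsol := hFT _ hidx
  have hcomm : IsMulCommutative (↥K ⧸ Subgroup.center ↥K) :=
    ⟨⟨(IsSimpleGroup.comm_iff_isSolvable.mpr hsol)⟩⟩
  haveI := hK.2.1
  have hp : Group.IsPerfect (↥K ⧸ Subgroup.center ↥K) :=
    Group.IsPerfect.ofSurjective (QuotientGroup.mk'_surjective _)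
  exact Group.IsPerfect.not_isSolvable (↥K ⧸ Subgroup.center ↥K) hsol

/-- If cyclic 2-subgroups of equal order are conjugate there is at most one component. -/
theorem component_unique (hFT : OddSolvable.{u})
    (hP : ∀ A B : Subgroup G, IsCyclic ↥A → IsCyclic ↥B → IsPGroup 2 ↥A →
      Nat.card ↥A = Nat.card ↥B → ∃ g : G, B = A.map (MulAut.conj g).toMonoidHom)
    {K L : Subgroup G} (hK : IsComponent K) (hL : IsComponent L) : K = L := by
  classical
  by_contra hne
  obtain ⟨a, haK, ⟨y, hyK, hay⟩, hamin⟩ :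
      ∃ a ∈ K, (∃ y ∈ K, a * y ≠ y * a) ∧ ∃ e, orderOf a = 2 ^ e ∧
        ∀ d < e, ∀ x ∈ K, orderOf x = 2 ^ d → ∀ y ∈ K, x * y = y * x := by
    have hex := exists_two_elem_not_central hFT hK
    obtain ⟨a, haK, hao, hy⟩ := Nat.find_spec hex
    refine ⟨a, haK, hy, Nat.find hex, hao, fun d hd x hx hxo y hy => ?_⟩
    by_contra hxy
    exact Nat.find_min hex hd ⟨x, hx, hxo, y, hy, hxy⟩
  obtain ⟨b, hbL, ⟨w, hwL, hbw⟩, hbmin⟩ :
      ∃ b ∈ L, (∃ y ∈ L, b * y ≠ y * b) ∧ ∃ e, orderOf b = 2 ^ e ∧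
        ∀ d < e, ∀ x ∈ L, orderOf x = 2 ^ d → ∀ y ∈ L, x * y = y * x := by
    have hex := exists_two_elem_not_central hFT hL
    obtain ⟨b, hbL, hbo, hy⟩ := Nat.find_spec hex
    refine ⟨b, hbL, hy, Nat.find hex, hbo, fun d hd x hx hxo y hy => ?_⟩
    by_contra hxy
    exact Nat.find_min hex hd ⟨x, hx, hxo, y, hy, hxy⟩
  obtain ⟨ea, hea, hamin⟩ := hamin
  obtain ⟨eb, heb, hbmin⟩ := hbmin
  have hKL : ∀ {x z : G}, x ∈ K → z ∈ L → x * z = z * x := fun hx hz =>
    ((Component.le_centralizer_of_ne hK hL hne) hx _ hz).symm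
  have hc_not : ∀ M : Subgroup G, IsComponent M → a * b ∉ M := by
    intro M hM hmem
    by_cases hMK : M = K
    · subst hMK
      have hbK : b ∈ M := by simpa using M.mul_mem (M.inv_mem haK) hmem
      exact hbw (hKL hbK hwL)
    by_cases hML : M = L
    · subst hML
      have haL : a ∈ M := by simpa using M.mul_mem hmem (M.inv_mem hbL)
      exact hay (hKL hyK haL).symm
    · have h1 : a * b * w = w * (a * b) :=
        ((Component.le_centralizer_of_ne hM hL hML) hmem _ hwL).symm
      apply hbw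
      have h2 : w * (a * b) = a * (w * b) := by rw [← mul_assoc, ← hKL haK hwL, mul_assoc]
      rw [h2, mul_assoc] at h1
      exact mul_left_cancel h1
  have hc_noncentral : a * b ∉ Subgroup.centralizer (layer G : Set G) := by
    intro hc
    have h1 : w * (a * b) = a * b * w := hc w (Layer.component_le_layer hL hwL)
    apply hbw
    have h2 : w * (a * b) = a * (w * b) := by rw [← mul_assoc, ← hKL haK hwL, mul_assoc]
    rw [h2, mul_assoc] at h1
    exact (mul_left_cancel h1).symm
  have main : ∀ (f : ℕ) (b' : G) (M : Subgroup G), IsComponent M → b' ∈ M → orderOf b' = 2 ^ f →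
      orderOf (a * b) ∣ 2 ^ f → (∀ d < f, ∀ x ∈ M, orderOf x = 2 ^ d → ∀ y ∈ M, x * y = y * x) →
      False := by
    intro f b' M hM hb' hbo hdvd hmin
    obtain ⟨d, hd, hd'⟩ := (Nat.dvd_prime_pow Nat.prime_two).mp hdvd
    have hx : orderOf (b' ^ 2 ^ (f - d)) = 2 ^ d := by
      rw [orderOf_pow' _ (by positivity), hbo,
        Nat.gcd_eq_right (pow_dvd_pow 2 (by omega)), Nat.pow_div (by omega) (by omega)]
      congr 1; omega
    obtain ⟨g, hg⟩ := hP (Subgroup.zpowers (b' ^ 2 ^ (f - d))) (Subgroup.zpowers (a * b))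
      inferInstance inferInstance
      (IsPGroup.of_card (n := d) (by rw [Nat.card_zpowers, hx]))
      (by rw [Nat.card_zpowers, Nat.card_zpowers, hx, hd'])
    have hmem : a * b ∈ (Subgroup.zpowers (b' ^ 2 ^ (f - d))).map (MulAut.conj g).toMonoidHom :=
      hg ▸ Subgroup.mem_zpowers _
    by_cases hdf : d = f
    · refine hc_not _ (Component.conj hM g) (Subgroup.map_mono ?_ hmem)
      exact Subgroup.zpowers_le.mpr (M.pow_mem hb' _)
    · have hcent : b' ^ 2 ^ (f - d) ∈ Subgroup.centralizer (layer G : Set G) := by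
        have hle : layer G ≤ Subgroup.centralizer ({b' ^ 2 ^ (f - d)} : Set G) := by
          refine sSup_le fun N hN z hz => ?_
          rw [Subgroup.mem_centralizer_singleton_iff]
          by_cases hNM : N = M
          · subst hNM
            exact (hmin d (by omega) _ (N.pow_mem hb' _) hx z hz).symm
          · exact ((Component.le_centralizer_of_ne hN hM hNM) hz _ (M.pow_mem hb' _)).symm
        intro z hz
        exact Subgroup.mem_centralizer_singleton_iff.mp (hle hz)
      apply hc_noncentral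
      obtain ⟨v, hv, hveq⟩ := hmem
      rw [← hveq]
      exact (inferInstance : (Subgroup.centralizer (layer G : Set G)).Normal).conj_mem v
        ((Subgroup.zpowers_le.mpr hcent) hv) g
  rcases le_total ea eb with h | h
  · refine main eb b L hL hbL heb ?_ hbmin
    refine (Commute.orderOf_mul_dvd_lcm (hKL haK hbL)).trans (Nat.lcm_dvd ?_ (by rw [heb]))
    rw [hea]; exact pow_dvd_pow 2 h
  · refine main ea a K hK haK hea ?_ hamin
    refine (Commute.orderOf_mul_dvd_lcm (hKL haK hbL)).trans (Nat.lcm_dvd (by rw [hea]) ?_)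
    rw [heb]; exact pow_dvd_pow 2 h

/-- `E(G)/Z(E(G))` is non-abelian simple. -/
theorem layer_quotient_simple (hFT : OddSolvable.{u})
    (hP : ∀ A B : Subgroup G, IsCyclic ↥A → IsCyclic ↥B → IsPGroup 2 ↥A →
      Nat.card ↥A = Nat.card ↥B → ∃ g : G, B = A.map (MulAut.conj g).toMonoidHom)
    (hE : layer G ≠ ⊥) :
    IsSimpleGroup (↥(layer G) ⧸ Subgroup.center ↥(layer G)) ∧
      ¬ IsMulCommutative (↥(layer G) ⧸ Subgroup.center ↥(layer G)) := by
  obtain ⟨K, hK⟩ := Layer.layer_ne_bot_iff.mp hE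
  have heq : layer G = K :=
    le_antisymm (sSup_le fun L hL => (component_unique hFT hP hL hK).le) (Layer.component_le_layer hK)
  have hq : IsQuasisimple ↥(layer G) := Quasisimple.of_mulEquiv hK.2 (MulEquiv.subgroupCongr heq.symm)
  refine ⟨hq.2, fun hc => ?_⟩
  haveI := hq.1
  haveI := hq.2
  haveI := hc
  haveI : Group.IsPerfect (↥(layer G) ⧸ Subgroup.center ↥(layer G)) :=
    Group.IsPerfect.ofSurjective (QuotientGroup.mk'_surjective _)
  exact Group.IsPerfect.not_isSolvable (↥(layer G) ⧸ Subgroup.center ↥(layer G))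
    (Group.isSolvable_of_comm fun x y => mul_comm' x y)

end Cfsg.Agent.Lib.FTConjCyclic
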